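import Cfsg.Agent.Lib.CosetEnum.Defs

/-! Generated table data. -/

set_option autoImplicit false
set_option maxRecDepth 20000

namespace Cfsg.Lib.CosetEnum.U62Pres.SubDFive

/-- Table data. -/
def tabZ_0_0 : Tab :=
  (.node 1 (.leaf 0x6700000000000000006600000000000000000000000000000000000000000000000000006500000000000000006100000000000000006400000000000000000000000000000000006300000000000000006200000000000000000000000000000000000000000000000000005a00000000000000006100000000000000005d00000000000000000000000000000000006000000000000000005f00000000000000000000000000000000000000000000000000005600000000000000005e00000000000000005d00000000000000000000000000000000005c00000000000000005b00000000000000000000000000000000000000000000000000005a00000000000000005900000000000000005500000000000000000000000000000000005800000000000000005700000000000000000000000000000000000000000000000000005600000000000000005200000000000000005500000000000000000000000000000000005400000000000000005000000000000000000000000000000000000000000000000000005300000000000000005200000000000000005100000000000000000000000000000000004c00000000000000005000000000000000000000000000000000000000000000000000004f00000000000000004e00000000000000004d00000000000000000000000000000000004c00000000000000004b00000000000000000000000000000000000000000000000000004a000000000000000049000000000000000048) (.leaf 0x6b00000000000000006f00000000000000000000000000000000000000000000000000006e00000000000000006d00000000000000006c00000000000000000000000000000000006b00000000000000006600000000000000000000000000000000000000000000000000006a000000000000000069000000000000000068))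

/-- Table data. -/
def tabZ_0 : Tab :=
  tabZ_0_0

end Cfsg.Lib.CosetEnum.U62Pres.SubDFive
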