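import Cfsg.Agent.Lib.CosetEnum.Defs

/-! Generated table data. -/

set_option autoImplicit false
set_option maxRecDepth 20000

namespace Cfsg.Lib.CosetEnum.U62Pres.SubDFive

/-- Table data. -/
def tabF_0_0 : Tab :=
  (.node 1 (.leaf 0x800015f0000000000c00003050000000000c00003020000000000c00003010000000000c00003000000000000c800031f0000000000b00002c20000000000b00002c10000000000b00002c00000000000a00002860000000000b80002df0000000000a00002820000000000a00002800000000000980002660000000000980002650000000000a800029f0000000000880002260000000000880002250000000000880002210000000000780001e60000000000780001e50000000000980002200000000000780001e10000000000680001a60000000000680001a500000000009000023f0000000000800001ff0000000000580001660000000000580001620000000000700001bf00000000005800016000000000006000017f0000000000500001420000000000500001410000000000500001400000000000000000050000000000000000020000000000000000010000000000000000000000000000c00003250000000000b00003060000000000b00002e10000000000a00002c50000000000a00002a20000000000980002810000000000780002620000000000880002410000000000680002220000000000780002010000000000680001e00000000000680001c50000000000580001a10000000000580001860000000000500001650000000000000001460000000000400001260000000000380001050000000000300000e10000000000200000c20000000000180000a2000000000018000080000000000010000061000000000008000045000000000000000026) (.leaf 0x4800012500000000004800012200000000004800012100000000004800012000000000004800010600000000004000010200000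00000400001010000000000400001000000000000380000e60000000000400000e50000000000380000e20000000000380000e00000000000300000c60000000000300000c50000000000380000c10000000000280000a60000000000280000a50000000000280000a10000000000300000a000000000002000008600000000002000008500000000003000008200000000002000008100000000001800006600000000001800006500000000002800006200000000002000006000000000001000004600000000001000004200000000001800004100000000001000004000000000001000002500000000000800002200000000000800002100000000000800002000000000000800000600000000000000000500000000000000000200000000000000000100000000000000000000000000004800031f0000000000400002df00000000003800029f00000000003000027f00000000002800023f0000000000200001ff0000000000180001bf00000000001000017f))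

/-- Table data. -/
def tabF_0 : Tab :=
  tabF_0_0

end Cfsg.Lib.CosetEnum.U62Pres.SubDFive
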